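import Mathlib
import Cfsg.Agent.Mrg.Omega.TwoFFour.SzNatC
import Cfsg.Agent.Mrg.Omega.NO1.Field.FZero
import Cfsg.Agent.Mrg.Omega.NO1.Field.KillF

-- merged: Cfsg.Agent.Omega.NO1.SzMod.Core
section

/-!
# THEOREM SZ (406 #19896), CLAIM A: the core lemma, without Maschke

`Core θ B X δ e₀ e₁ π₀ π₁`: `B` an elementary abelian 2-group with operators `X a = t_a - 1` (`a ∈ F`), torus `δ l`
(`l ≠ 0`), coordinates `e₀, e₁ : F → B` of `M₁ ∩ B` (bottom natural factor), `π₀, π₁ : B → F` of `B/(M₂ ∩ B)` (top natural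
factor). `Core.claim : X a (X b m) = 0`.
-/

set_option autoImplicit false
set_option linter.unusedSectionVars false

namespace Cfsg.Agent.Omega.NO1.SzMod

variable {F : Type*} [Field F] {θ : F →+* F} {B : Type*} [AddCommGroup B]

/-- The data of the core lemma. -/
structure Core (θ : F →+* F) (B : Type*) [AddCommGroup B] (X : F → B →+ B) (δ : Fˣ → B →+ B)
    (e₀ e₁ : F →+ B) (π₀ π₁ : B →+ F) : Prop where
  two : ∀ x : F, x + x = 0
  sq : ∀ x : F, θ (θ x) = x ^ 2
  ne_id : ∃ c : F, θ c ≠ c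
  twoB : ∀ m : B, m + m = 0
  X_add : ∀ a b m, X (a + b) m = X a m + X b m + X a (X b m)
  X_comm : ∀ a b m, X a (X b m) = X b (X a m)
  X_zero : ∀ m, X 0 m = 0
  δ_X : ∀ (l : Fˣ) a m, δ l (X a m) = X (θ l * a) (δ l m)
  X_e₀ : ∀ a c, X a (e₀ c) = 0
  X_e₁ : ∀ a c, X a (e₁ c) = e₀ (a * c)
  δ_e₀ : ∀ (l : Fˣ) c, δ l (e₀ c) = e₀ (l * θ l * c)
  e₀_inj : Function.Injective e₀
  π₀_e₀ : ∀ c, π₀ (e₀ c) = 0
  π₀_e₁ : ∀ c, π₀ (e₁ c) = 0
  π₁_e₀ : ∀ c, π₁ (e₀ c) = 0
  π₁_e₁ : ∀ c, π₁ (e₁ c) = 0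
  π₁_X : ∀ a m, π₁ (X a m) = 0
  π₀_X : ∀ a m, π₀ (X a m) = a * π₁ m
  π₁_δ : ∀ (l : Fˣ) m, π₁ (δ l m) = l * π₁ m
  π₀_δ : ∀ (l : Fˣ) m, π₀ (δ l m) = l * θ l * π₀ m
  π_surj : ∃ m, π₁ m = 1
  /-- `M/M₁` -/
  top : ∀ a b m, ∃ c d, X a (X b m) = e₀ c + e₁ d
  top' : ∀ y, (∀ a, ∃ c d, X a y = e₀ c + e₁ d) → ∀ a, ∃ c, X a y = e₀ c
  /-- `M₂` -/
  bot : ∀ m, π₀ m = 0 → π₁ m = 0 → ∀ a b, X a (X b m) = 0
  bot' : ∀ m, π₀ m = 0 → π₁ m = 0 → X 1 m = 0 → ∀ a, X a m = 0

variable {X : F → B →+ B} {δ : Fˣ → B →+ B} {e₀ e₁ : F →+ B} {π₀ π₁ : B →+ F}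

/-- `y ∈ Y` with coordinates `q`. -/
def Yq (X : F → B →+ B) (e₀ : F →+ B) (y : B) (q : F → F) : Prop := ∀ a, X a y = e₀ (q a)

namespace Core

variable (h : Core θ B X δ e₀ e₁ π₀ π₁)
include h

theorem exists_Yq {y : B} (hy : ∀ a, ∃ c d, X a y = e₀ c + e₁ d) : ∃ q, Yq X e₀ y q := by
  choose q hq using h.top' y hy
  exact ⟨q, hq⟩

theorem exists_YqX (b : F) (m : B) : ∃ q, Yq X e₀ (X b m) q :=
  h.exists_Yq fun a => h.top a b m

theorem XXX (a b c : F) (m : B) : X a (X b (X c m)) = 0 := by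
  obtain ⟨q, hq⟩ := h.exists_YqX c m
  rw [hq b, h.X_e₀]

theorem Yq_uniq {y : B} {q q' : F → F} (hq : Yq X e₀ y q) (hq' : Yq X e₀ y q') : q = q' := by
  funext a
  exact h.e₀_inj (by rw [← hq a, ← hq' a])

theorem Yq_add {y y' : B} {q q' : F → F} (hq : Yq X e₀ y q) (hq' : Yq X e₀ y' q') :
    Yq X e₀ (y + y') (q + q') := by
  intro a
  rw [map_add, hq a, hq' a, Pi.add_apply, map_add]

theorem q_add {y : B} {q : F → F} (hq : Yq X e₀ y q) (a b : F) : q (a + b) = q a + q b := by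
  apply h.e₀_inj
  rw [← hq, h.X_add, map_add, ← hq, ← hq, hq b, h.X_e₀, add_zero]

theorem q_zero {y : B} {q : F → F} (hq : Yq X e₀ y q) : q 0 = 0 := by
  apply h.e₀_inj
  rw [← hq, h.X_zero, map_zero]

theorem Yq_δ {y : B} {q : F → F} (hq : Yq X e₀ y q) (l : Fˣ) :
    Yq X e₀ (δ l y) (fun a => l * θ l * q ((θ l)⁻¹ * a)) := by
  intro a
  have hθ : θ (l : F) ≠ 0 := (map_ne_zero θ).2 l.ne_zero
  have h1 := h.δ_X l ((θ l)⁻¹ * a) y
  rw [← mul_assoc, mul_inv_cancel₀ hθ, one_mul, hq, h.δ_e₀] at h1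
  exact h1.symm

end Core

/-- the `F`-linear part of `q` -/
def tau [Fintype Fˣ] (q : F → F) : F := ∑ a : Fˣ, (a : F)⁻¹ * q a

section tau

variable [Fintype F] [DecidableEq F]

theorem tau_add (q q' : F → F) : tau (q + q') = tau q + tau q' := by
  unfold tau
  rw [← Finset.sum_add_distrib]
  exact Finset.sum_congr rfl fun a _ => by rw [Pi.add_apply]; ring

theorem tau_lin (two : ∀ x : F, x + x = 0) (c : F) : tau (fun a => a * c) = c := by
  unfold tau
  have h1 : ∀ a ∈ (Finset.univ : Finset Fˣ), (a : F)⁻¹ * (a * c) = c := fun a _ => by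
    rw [← mul_assoc, inv_mul_cancel₀ a.ne_zero, one_mul]
  rw [Finset.sum_congr rfl h1, Finset.sum_const, Finset.card_univ]
  have h2 : (Fintype.card Fˣ : F) = 1 := by
    have h3 := Fintype.card_units (α := F)
    have h4 : Fintype.card Fˣ + 1 = Fintype.card F := by
      have := Fintype.one_lt_card (α := F)
      omega
    have h8 : ((Fintype.card Fˣ : ℕ) : F) + 1 = 0 := by
      have : (((Fintype.card Fˣ + 1 : ℕ)) : F) = (Fintype.card F : F) := by rw [h4]
      rw [Nat.cast_add, Nat.cast_one, FiniteField.cast_card_eq_zero] at this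
      exact this
    have h9 : (1 : F) + 1 = 0 := two 1
    linear_combination h8 - h9
  rw [nsmul_eq_mul, h2, one_mul]

theorem tau_zero : tau (0 : F → F) = 0 := by
  unfold tau
  exact Finset.sum_eq_zero fun a _ => by rw [Pi.zero_apply, mul_zero]

theorem tau_δ (q : F → F) (l : Fˣ) : tau (fun a => l * θ l * q ((θ l)⁻¹ * a)) = l * tau q := by
  unfold tau
  rw [Finset.mul_sum]
  have hθ : θ (l : F) ≠ 0 := (map_ne_zero θ).2 l.ne_zero
  let t : Fˣ := Units.mk0 (θ l) hθ
  rw [← Equiv.sum_comp (Equiv.mulLeft t)]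
  refine Finset.sum_congr rfl fun a _ => ?_
  have h1 : (((Equiv.mulLeft t) a : Fˣ) : F) = θ l * a := rfl
  have h2 : (θ (l : F))⁻¹ * (θ l * a) = a := by rw [← mul_assoc, inv_mul_cancel₀ hθ, one_mul]
  show (((Equiv.mulLeft t) a : Fˣ) : F)⁻¹ * (l * θ l * q ((θ l)⁻¹ * (((Equiv.mulLeft t) a : Fˣ) : F))) = _
  rw [h1, h2, mul_inv]
  have ha := a.ne_zero
  field_simp

end tau

namespace Core

variable [Fintype F] [DecidableEq F] (h : Core θ B X δ e₀ e₁ π₀ π₁)
include h

/-- elements of `Y` in `M₂`: `q` is linear -/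
theorem q_lin {y : B} {q : F → F} (hq : Yq X e₀ y q) (h0 : π₀ y = 0) (h1 : π₁ y = 0) :
    q = fun a => a * tau q := by
  have h2 : ∀ a, q a = a * q 1 := by
    intro a
    have h3 : X 1 (y + e₁ (q 1)) = 0 := by
      rw [map_add, hq, h.X_e₁, one_mul, h.twoB]
    have h4 := h.bot' (y + e₁ (q 1)) (by rw [map_add, h0, h.π₀_e₁, add_zero])
      (by rw [map_add, h1, h.π₁_e₁, add_zero]) h3 a
    rw [map_add, hq, h.X_e₁, ← map_add] at h4
    have h5 : q a + a * q 1 = 0 := h.e₀_inj (by rw [h4, map_zero])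
    have h6 := h.two (a * q 1)
    linear_combination h5 - h6
  have h3 : q = fun a => a * q 1 := funext h2
  have h4 : tau q = q 1 := by
    conv_lhs => rw [h3]
    exact tau_lin h.two (q 1)
  rw [h4]
  exact h3

/-- `r` depends only on the image in `M/M₂` -/
theorem r_congr {y y' : B} {q q' : F → F} (hq : Yq X e₀ y q) (hq' : Yq X e₀ y' q') (h0 : π₀ y = π₀ y')
    (h1 : π₁ y = π₁ y') (a : F) : q a + a * tau q = q' a + a * tau q' := by
  have h2 := h.q_lin (h.Yq_add hq hq') (by rw [map_add, h0, h.two]) (by rw [map_add, h1, h.two])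
  have h3 := congrFun h2 a
  rw [Pi.add_apply, tau_add] at h3
  have h4 := h.two (a * tau q)
  have h5 := h.two (q' a)
  linear_combination h3 + h4 - h5

theorem exists_k (x : F) (hx : x ≠ 0) : ∃ k : Fˣ, (k : F) * θ k = x := by
  have hθ : θ x ≠ 0 := (map_ne_zero θ).2 hx
  refine ⟨Units.mk0 (θ x / x) (div_ne_zero hθ hx), ?_⟩
  rw [Units.val_mk0, map_div₀, h.sq]
  field_simp

/-- an additive `g` with `l ↦ g (l θ(l))` additive is zero -/
theorem g_zero {g : F → F} (hg : ∀ a b, g (a + b) = g a + g b)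
    (hg' : ∀ l n, g ((l + n) * θ (l + n)) = g (l * θ l) + g (n * θ n)) (x : F) : g x = 0 := by
  have h1 : ∀ l n, g (l * θ n + n * θ l) = 0 := by
    intro l n
    have h2 := hg' l n
    have h3 : (l + n) * θ (l + n) = (l * θ l + n * θ n) + (l * θ n + n * θ l) := by
      rw [map_add]; ring
    rw [h3, hg, hg] at h2
    linear_combination h2
  rcases eq_or_ne x 0 with rfl | hx
  · have h4 := hg 0 0
    rw [add_zero] at h4
    linear_combination -h4
  · obtain ⟨c, hc⟩ := h.ne_id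
    have hc0 : c + θ c ≠ 0 := by
      intro h5
      apply hc
      have := h.two c
      linear_combination h5 - this
    obtain ⟨k, hk⟩ := h.exists_k (x / (c + θ c)) (div_ne_zero hx hc0)
    have h5 := h1 (k * c) k
    have h6 : (k : F) * c * θ k + k * θ (k * c) = x := by
      rw [map_mul]
      have h7 : (k : F) * c * θ k + k * (θ k * θ c) = (k * θ k) * (c + θ c) := by ring
      rw [h7, hk]
      field_simp
    rwa [h6] at h5

/-- the main computation, `m` with image `e₁` -/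
theorem main {m : B} (hm : π₁ m = 1) (a b : F) : X a (X b m) = 0 := by
  choose q hq using fun b => h.exists_YqX b m
  -- `b ↦ q b` is additive
  have hqadd : ∀ b c, q (b + c) = q b + q c := by
    intro b c
    have h1 : Yq X e₀ (X (b + c) m) (q b + q c) := by
      intro a
      rw [h.X_add, map_add, map_add, h.XXX, add_zero, hq b a, hq c a, Pi.add_apply, map_add]
    exact h.Yq_uniq (hq _) h1
  set g : F → F := fun b => tau (q b) with hgd
  have hg : ∀ b c, g (b + c) = g b + g c := fun b c => by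
    show tau (q (b + c)) = _
    rw [hqadd, tau_add]
  have halt : ∀ a, q a a = 0 := by
    intro a
    have h1 := h.X_add a a m
    rw [h.two a, h.X_zero, h.twoB, zero_add, hq a a] at h1
    exact h.e₀_inj (by rw [← h1, map_zero])
  -- torus
  have htor : ∀ (l : Fˣ) (a : F), q (l * θ l) (θ l * a) + θ l * a * g (l * θ l)
      = l * θ l * (q 1 a + a * g 1) := by
    intro l a
    have hθ : θ (l : F) ≠ 0 := (map_ne_zero θ).2 l.ne_zero
    have h1 := h.r_congr (hq (l * θ l)) (h.Yq_δ (hq 1) l)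
      (by rw [h.π₀_X, h.π₀_δ, h.π₀_X, hm]; ring) (by rw [h.π₁_X, h.π₁_δ, h.π₁_X]; ring) (θ l * a)
    rw [tau_δ] at h1
    have h2 : (θ (l : F))⁻¹ * (θ l * a) = a := by rw [← mul_assoc, inv_mul_cancel₀ hθ, one_mul]
    simp only [h2] at h1
    show q (l * θ l) (θ l * a) + θ l * a * tau (q (l * θ l)) = _
    rw [h1]
    show l * θ l * q 1 a + θ l * a * (l * tau (q 1)) = l * θ l * (q 1 a + a * tau (q 1))
    ring
  have hgr : ∀ l : F, g (l * θ l) = q 1 l + l * g 1 := by
    intro l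
    rcases eq_or_ne l 0 with rfl | hl
    · rw [zero_mul, zero_mul, add_zero, h.q_zero (hq 1)]
      have h1 := hg 0 0
      rw [add_zero] at h1
      linear_combination -h1
    · have h1 := htor (Units.mk0 l hl) l
      rw [Units.val_mk0] at h1
      have h2 : θ l * l = l * θ l := mul_comm _ _
      rw [h2, halt, zero_add] at h1
      have hθ : θ l ≠ 0 := (map_ne_zero θ).2 hl
      exact mul_left_cancel₀ (mul_ne_zero hl hθ) h1
  have hg0 : ∀ x, g x = 0 := by
    refine h.g_zero hg ?_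
    intro l n
    rw [hgr, hgr, hgr, h.q_add (hq 1)]
    ring
  have hr1 : ∀ l, q 1 l = 0 := by
    intro l
    have h1 := hgr l
    rw [hg0, hg0, mul_zero, add_zero] at h1
    exact h1.symm
  have hfin : q b a = 0 := by
    rcases eq_or_ne b 0 with rfl | hb
    · have h1 := hqadd 0 0
      rw [add_zero] at h1
      have h2 := congrFun h1 a
      rw [Pi.add_apply] at h2
      linear_combination -h2
    · obtain ⟨k, rfl⟩ := h.exists_k b hb
      have hθ : θ (k : F) ≠ 0 := (map_ne_zero θ).2 k.ne_zero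
      have h1 := htor k ((θ k)⁻¹ * a)
      rw [hg0, hg0, hr1] at h1
      have h2 : θ (k : F) * ((θ k)⁻¹ * a) = a := by rw [← mul_assoc, mul_inv_cancel₀ hθ, one_mul]
      rw [h2] at h1
      linear_combination h1
  rw [hq b a, hfin, map_zero]

/-- **`[B, T, T] = 0`** -/
theorem claim (m : B) (a b : F) : X a (X b m) = 0 := by
  obtain ⟨m₁, hm₁⟩ := h.π_surj
  have h1 : ∀ c, ∃ n, π₁ n = c ∧ X a (X b n) = 0 := by
    intro c
    rcases eq_or_ne c 0 with rfl | hc
    · exact ⟨0, map_zero _, by rw [map_zero, map_zero]⟩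
    · let l : Fˣ := Units.mk0 c hc
      refine ⟨δ l m₁, by rw [h.π₁_δ, hm₁, mul_one]; rfl, ?_⟩
      have hθ : θ (l : F) ≠ 0 := (map_ne_zero θ).2 l.ne_zero
      have h2 : ∀ x, θ (l : F) * ((θ l)⁻¹ * x) = x := fun x => by
        rw [← mul_assoc, mul_inv_cancel₀ hθ, one_mul]
      have h3 := h.δ_X l ((θ l)⁻¹ * b) m₁
      rw [h2] at h3
      have h4 := h.δ_X l ((θ l)⁻¹ * a) (X ((θ l)⁻¹ * b) m₁)
      rw [h2, h3, h.main hm₁, map_zero] at h4
      exact h4.symm
  obtain ⟨n, hn, hn'⟩ := h1 (π₁ m)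
  have h2 : X a (X b (X (π₀ (m + n)) m₁)) = 0 := h.XXX _ _ _ _
  have h3 := h.bot (m + n + X (π₀ (m + n)) m₁)
    (by rw [map_add, h.π₀_X, hm₁, mul_one, h.two])
    (by rw [map_add, map_add, h.π₁_X, hn, h.two, add_zero]) a b
  rw [map_add, map_add, map_add, map_add, h2, hn', add_zero, add_zero] at h3
  exact h3

end Core

end Cfsg.Agent.Omega.NO1.SzMod

end

-- merged: Cfsg.Agent.Mrg.Omega.NO1.SzMod.Mod
section

section


/-!
# THEOREM SZ (406 #19896), CLAIM A: the modules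

`SM H P`: `P` an `F₂ Sz(q)`-module such that `Z = {u 0 b}` is quadratic, all `1 ≠ z ∈ Z` have the same fixed points
`B0 = C_P(z) ≤ [P, z]`, and `B0 ∩ w B0 = 0`. Submodules and quotients have the same property (`SM.sub`, `SM.quo`).
-/

set_option autoImplicit false
set_option linter.unusedSectionVars false
set_option linter.deprecated false
set_option linter.style.haveILetI false

namespace Cfsg.Agent.Omega.NO1.SzMod

open Cfsg.Agent.LieRecognition.SzMatrix Cfsg.Agent.ThreePrime.SzRel Cfsg.Agent.Omega.TwoFFour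

section acts

variable {Y M : Type*} [Group Y] [AddCommGroup M] [DistribMulAction Y M]

/-- the action on an invariant subgroup -/
@[reducible] def subAct (A : AddSubgroup M) (hA : ∀ y : Y, ∀ m ∈ A, y • m ∈ A) : DistribMulAction Y A where
  smul y m := ⟨y • (m : M), hA y m m.2⟩
  one_smul m := Subtype.ext (one_smul Y (m : M))
  mul_smul x y m := Subtype.ext (mul_smul x y (m : M))
  smul_zero y := Subtype.ext (smul_zero y)
  smul_add y a b := Subtype.ext (smul_add y (a : M) (b : M))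

/-- the action on the quotient by an invariant subgroup -/
@[reducible] def quoAct (A : AddSubgroup M) (hA : ∀ y : Y, ∀ m ∈ A, y • m ∈ A) : DistribMulAction Y (M ⧸ A) where
  smul y := QuotientAddGroup.map A A (DistribMulAction.toAddMonoidHom M y) (fun m hm => hA y m hm)
  one_smul m := by
    induction m using QuotientAddGroup.induction_on with
    | H m => exact congrArg (QuotientAddGroup.mk (s := A)) (one_smul Y m)
  mul_smul x y m := by
    induction m using QuotientAddGroup.induction_on with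
    | H m => exact congrArg (QuotientAddGroup.mk (s := A)) (mul_smul x y m)
  smul_zero y := map_zero _
  smul_add y a b := map_add _ a b

end acts

universe u

variable {F : Type*} [Field F] {θ : F →+* F} {e : ℕ} {H : Good F θ e}

section modules

variable {P : Type u} [AddCommGroup P] [DistribMulAction (LS F e) P]

/-- `C_P(Z)` -/
def B0 (H : Good F θ e) (P : Type u) [AddCommGroup P] [DistribMulAction (LS F e) P] : AddSubgroup P where
  carrier := {m | ∀ c, H.u 0 c • m = m}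
  zero_mem' := fun _ => smul_zero _
  add_mem' := fun {a b} ha hb c => by rw [smul_add, ha, hb]
  neg_mem' := fun {a} ha c => by rw [smul_neg, ha]

theorem mem_B0 {m : P} : m ∈ B0 H P ↔ ∀ c, H.u 0 c • m = m := Iff.rfl

/-- the modules of CLAIM A -/
structure SM (H : Good F θ e) (P : Type u) [AddCommGroup P] [DistribMulAction (LS F e) P] : Prop where
  two : ∀ m : P, m + m = 0
  quad : Qd H P
  c1 : ∀ b : F, b ≠ 0 → ∀ m : P, H.u 0 b • m = m → m ∈ B0 H P
  c2 : ∀ b : F, b ≠ 0 → ∀ m ∈ B0 H P, ∃ n : P, m = H.u 0 b • n - n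
  c3 : ∀ m ∈ B0 H P, H.w • m ∈ B0 H P → m = 0

/-- `Inv X` : `X` is a submodule -/
def Inv (X : AddSubgroup P) : Prop := ∀ g : LS F e, ∀ x ∈ X, g • x ∈ X

theorem u_B0 {m : P} (hm : m ∈ B0 H P) (a b : F) : H.u a b • m = H.u a 0 • m := by
  have h1 : H.u a b = H.u a 0 * H.u 0 b := by rw [H.u_mul]; simp
  rw [h1, mul_smul, hm]

theorem u_mem_B0 {m : P} (hm : m ∈ B0 H P) (a b : F) : H.u a b • m ∈ B0 H P := by
  intro c
  have h1 : H.u 0 c * H.u a b = H.u a b * H.u 0 c := by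
    rw [H.u_mul, H.u_mul]
    congr 1
    · ring
    · rw [map_zero]; ring
  rw [← mul_smul, h1, mul_smul, hm]

theorem d_mem_B0 {m : P} (hm : m ∈ B0 H P) (k : Fˣ) : H.d k • m ∈ B0 H P := by
  intro c
  have hθ := theta_ne_zero θ k
  have h1 := H.d_mul_u k 0 (c * (θ k)⁻¹)
  have h2 : (0 : F) * k ^ 2 * (θ k)⁻¹ = 0 := by ring
  have h3 : c * (θ (k : F))⁻¹ * θ k = c := by field_simp
  rw [h2, h3] at h1
  rw [← mul_smul, ← h1, mul_smul, hm]

/-- `[m, z]` -/
def fz (H : Good F θ e) (P : Type u) [AddCommGroup P] [DistribMulAction (LS F e) P] (b : F) : P →+ P :=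
  DistribMulAction.toAddMonoidHom P (H.u 0 b) - AddMonoidHom.id P

theorem fz_apply (b : F) (m : P) : fz H P b m = H.u 0 b • m - m := rfl

variable [Finite P] (h : SM H P)
include h

theorem SM.fz_mem (b : F) (m : P) : fz H P b m ∈ B0 H P := fun c => h.quad c b m

theorem SM.sub_eq (m n : P) : m - n = m + n := by
  rw [sub_eq_add_neg, neg_eq_of_add_eq_zero_left (h.two n)]

/-- `|X| = |X ∩ B0|²` -/
theorem SM.card_X {X : AddSubgroup P} (hX : Inv (F := F) (e := e) X) :
    Nat.card X = Nat.card (X ⊓ B0 H P : AddSubgroup P) * Nat.card (X ⊓ B0 H P : AddSubgroup P) ∧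
      (∀ b : F, b ≠ 0 → ∀ m ∈ X, m ∈ B0 H P → ∃ n ∈ X, m = H.u 0 b • n - n) ∧
      ∀ x ∈ X, ∃ y ∈ X, ∃ z ∈ X, y ∈ B0 H P ∧ z ∈ B0 H P ∧ x = y + H.w • z := by
  set Y : AddSubgroup P := X ⊓ B0 H P with hY
  have hYpos : 0 < Nat.card Y := Nat.card_pos
  -- (1) `[X, z]`
  have h1 : ∀ b : F, b ≠ 0 → ∃ g : X →+ Y, (∀ x : X, (g x : P) = H.u 0 b • (x : P) - x) ∧
      Nat.card X = Nat.card g.range * Nat.card Y := by
    intro b hb
    let g : X →+ Y :=
      { toFun := fun x => ⟨H.u 0 b • (x : P) - x, X.sub_mem (hX _ _ x.2) x.2, h.fz_mem b x⟩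
        map_zero' := Subtype.ext (by show H.u 0 b • (0 : P) - 0 = 0; rw [smul_zero, sub_zero])
        map_add' := fun x y => Subtype.ext (by
          show H.u 0 b • ((x : P) + y) - (x + y) = (H.u 0 b • (x : P) - x) + (H.u 0 b • (y : P) - y)
          rw [smul_add]; abel) }
    refine ⟨g, fun x => rfl, ?_⟩
    have h2 : Nat.card g.ker = Nat.card Y := by
      refine Nat.card_congr ⟨fun x => ⟨(x : X), x.1.2, h.c1 b hb _ ?_⟩, fun y => ⟨⟨y, y.2.1⟩, ?_⟩, ?_, ?_⟩
      · have h3 := congrArg (Subtype.val) (AddMonoidHom.mem_ker.1 x.2)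
        exact sub_eq_zero.1 h3
      · exact AddMonoidHom.mem_ker.2 (Subtype.ext (sub_eq_zero.2 (y.2.2 b)))
      · intro x; rfl
      · intro y; rfl
    rw [← h2, AddSubgroup.card_eq_card_quotient_mul_card_addSubgroup g.ker]
    congr 1
    exact Nat.card_congr (QuotientAddGroup.quotientKerEquivRange g).toEquiv
  -- (2) `Y × Y → X`
  let f : Y × Y → X := fun p => ⟨(p.1 : P) + H.w • (p.2 : P), X.add_mem p.1.2.1 (hX _ _ p.2.2.1)⟩
  have hf : Function.Injective f := by
    rintro ⟨a, b⟩ ⟨c, d⟩ hab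
    have h3 : (a : P) + H.w • (b : P) = c + H.w • (d : P) := congrArg Subtype.val hab
    have h4 : H.w • ((b : P) - d) = (c : P) - a := by
      rw [smul_sub]
      have : H.w • (b : P) - H.w • (d : P) = (a + H.w • (b : P)) - a - H.w • (d : P) := by abel
      rw [this, h3]; abel
    have h5 := h.c3 ((b : P) - d) (sub_mem b.2.2 d.2.2) (by rw [h4]; exact sub_mem c.2.2 a.2.2)
    rw [h5, smul_zero] at h4
    exact Prod.ext (Subtype.ext (sub_eq_zero.1 h4.symm).symm) (Subtype.ext (sub_eq_zero.1 h5))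
  have hle1 : Nat.card Y * Nat.card Y ≤ Nat.card X := by
    rw [← Nat.card_prod]
    exact Nat.card_le_card_of_injective f hf
  have h01 : (1 : F) ≠ 0 := one_ne_zero
  have hr : ∀ b : F, b ≠ 0 → ∀ g : X →+ Y, Nat.card X = Nat.card g.range * Nat.card Y →
      g.range = ⊤ := by
    intro b _ g hg
    apply AddSubgroup.eq_top_of_card_eq
    refine le_antisymm (AddSubgroup.card_le_card_addGroup _) ?_
    rw [hg] at hle1
    exact Nat.le_of_mul_le_mul_right hle1 hYpos
  have hcard : Nat.card X = Nat.card Y * Nat.card Y := by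
    obtain ⟨g, -, hg⟩ := h1 1 h01
    rw [hg, hr 1 h01 g hg, AddSubgroup.card_top]
  refine ⟨hcard, ?_, ?_⟩
  · intro b hb m hmX hmB
    obtain ⟨g, hg1, hg⟩ := h1 b hb
    have h2 := hr b hb g hg
    have h3 : (⟨m, hmX, hmB⟩ : Y) ∈ g.range := by rw [h2]; exact AddSubgroup.mem_top _
    obtain ⟨x, hx⟩ := h3
    refine ⟨x, x.2, ?_⟩
    rw [← hg1 x, hx]
  · intro x hx
    have hb : Function.Bijective f := by
      rw [Nat.bijective_iff_injective_and_card]
      exact ⟨hf, by rw [Nat.card_prod, hcard]⟩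
    obtain ⟨⟨y, z⟩, hyz⟩ := hb.2 ⟨x, hx⟩
    exact ⟨y, y.2.1, z, z.2.1, y.2.2, z.2.2, (congrArg Subtype.val hyz).symm⟩

/-- submodules -/
theorem SM.sub {X : AddSubgroup P} (hX : Inv (F := F) (e := e) X) :
    letI := subAct (Y := LS F e) X hX
    SM H X ∧ ∀ m : X, m ∈ B0 H X ↔ (m : P) ∈ B0 H P := by
  letI := subAct (Y := LS F e) X hX
  have hmem : ∀ m : X, m ∈ B0 H X ↔ (m : P) ∈ B0 H P := fun m =>
    ⟨fun hm c => congrArg Subtype.val (hm c), fun hm c => Subtype.ext (hm c)⟩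
  refine ⟨⟨fun m => Subtype.ext (h.two m), fun b c m => Subtype.ext (h.quad b c m), ?_, ?_, ?_⟩, hmem⟩
  · intro b hb m hm
    exact (hmem m).2 (h.c1 b hb m (congrArg Subtype.val hm))
  · intro b hb m hm
    obtain ⟨n, hn, hmn⟩ := (h.card_X hX).2.1 b hb m m.2 ((hmem m).1 hm)
    exact ⟨⟨n, hn⟩, Subtype.ext hmn⟩
  · intro m hm hwm
    exact Subtype.ext (h.c3 m ((hmem m).1 hm) ((hmem _).1 hwm))

/-- quotients -/
theorem SM.quo {X : AddSubgroup P} (hX : Inv (F := F) (e := e) X) :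
    letI := quoAct (Y := LS F e) X hX
    SM H (P ⧸ X) ∧ ∀ m : P, (QuotientAddGroup.mk m : P ⧸ X) ∈ B0 H (P ⧸ X) ↔ ∃ n ∈ B0 H P, m - n ∈ X := by
  letI := quoAct (Y := LS F e) X hX
  have hact : ∀ (g : LS F e) (m : P), g • (QuotientAddGroup.mk m : P ⧸ X) = QuotientAddGroup.mk (g • m) :=
    fun _ _ => rfl
  have h1 : ∀ b : F, b ≠ 0 → ∀ m : P, H.u 0 b • (QuotientAddGroup.mk m : P ⧸ X) = QuotientAddGroup.mk m →
      ∃ n ∈ B0 H P, m - n ∈ X := by
    intro b hb m hm
    rw [hact, QuotientAddGroup.eq] at hm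
    have h2 : H.u 0 b • m - m ∈ X := by
      have := X.neg_mem hm
      rwa [neg_add, neg_neg, ← sub_eq_add_neg] at this
    obtain ⟨n, hn, hmn⟩ := (h.card_X hX).2.1 b hb _ h2 (h.fz_mem b m)
    refine ⟨m - n, h.c1 b hb _ ?_, by rw [sub_sub_cancel]; exact hn⟩
    rw [smul_sub]
    have h3 : H.u 0 b • m - H.u 0 b • n = (H.u 0 b • m - m) - (H.u 0 b • n - n) + (m - n) := by abel
    rw [h3, hmn, sub_self, zero_add]
  have hmem : ∀ m : P, (QuotientAddGroup.mk m : P ⧸ X) ∈ B0 H (P ⧸ X) ↔ ∃ n ∈ B0 H P, m - n ∈ X := by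
    intro m
    refine ⟨fun hm => h1 1 one_ne_zero m (hm 1), ?_⟩
    rintro ⟨n, hn, hmn⟩ c
    rw [hact, QuotientAddGroup.eq]
    have h3 := X.sub_mem hmn (hX (H.u 0 c) _ hmn)
    have h4 : m - n - H.u 0 c • (m - n) = -(H.u 0 c • m) + m := by
      rw [smul_sub, hn]; abel
    rwa [h4] at h3
  refine ⟨⟨?_, ?_, ?_, ?_, ?_⟩, hmem⟩
  · intro m
    induction m using QuotientAddGroup.induction_on with
    | H m => exact congrArg (QuotientAddGroup.mk (s := X)) (h.two m)
  · intro b c m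
    induction m using QuotientAddGroup.induction_on with
    | H m => exact congrArg (QuotientAddGroup.mk (s := X)) (h.quad b c m)
  · intro b hb m hm
    induction m using QuotientAddGroup.induction_on with
    | H m => exact (hmem m).2 (h1 b hb m hm)
  · intro b hb m hm
    induction m using QuotientAddGroup.induction_on with
    | H m =>
      obtain ⟨n, hn, hmn⟩ := (hmem m).1 hm
      obtain ⟨p, hp⟩ := h.c2 b hb n hn
      refine ⟨QuotientAddGroup.mk p, ?_⟩
      have h2 : (QuotientAddGroup.mk m : P ⧸ X) = QuotientAddGroup.mk n := by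
        rw [QuotientAddGroup.eq]
        have h3 := X.neg_mem hmn
        rwa [neg_sub, sub_eq_add_neg, add_comm] at h3
      rw [h2, hp]
      rfl
  · intro m hm hwm
    induction m using QuotientAddGroup.induction_on with
    | H m =>
      obtain ⟨n, hn, hmn⟩ := (hmem m).1 hm
      obtain ⟨p, hp, hwp⟩ := (hmem (H.w • m)).1 hwm
      -- `w n - p ∈ X`
      have h2 : H.w • n - p ∈ X := by
        have h3 := X.sub_mem hwp (hX H.w _ hmn)
        have h4 : H.w • m - p - H.w • (m - n) = H.w • n - p := by rw [smul_sub]; abel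
        rwa [h4] at h3
      obtain ⟨y, hyX, z, hzX, hy, hz, hyz⟩ := (h.card_X hX).2.2 _ h2
      have h5 : H.w • (n - z) = y + p := by
        rw [smul_sub]
        have h6 : H.w • n = (H.w • n - p) + p := by abel
        rw [h6, hyz]; abel
      have h7 := h.c3 (n - z) (sub_mem hn hz) (by rw [h5]; exact add_mem hy hp)
      rw [QuotientAddGroup.eq_zero_iff]
      have h8 : m = (m - n) + z := by
        have h9 : n = z := sub_eq_zero.1 h7
        rw [h9]; abel
      rw [h8]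
      exact X.add_mem hmn hzX

/-- **irreducible modules are natural** -/
theorem SM.exists_nat [Finite F] (h3 : 3 ≤ Nat.card F) (hne : ∃ m : P, m ≠ 0)
    (irr : ∀ X : AddSubgroup P, Inv (F := F) (e := e) X → X = ⊥ ∨ X = ⊤) :
    ∃ f : P → (Fin 4 → F), Function.Bijective f ∧
    (∀ x y, f (x + y) = f x + f y) ∧ ∀ (g : LS F e) (m : P), f (g • m) = mv g.1 (f m) := by
  have hy : Hy H P := by
    refine ⟨h3, h.two, h.quad, irr, ?_⟩
    by_contra hcon
    push Not at hcon
    obtain ⟨m, hm⟩ := hne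
    exact hm (h.c3 m (fun c => hcon _ _) (fun c => by rw [hcon, hcon]))
  exact hy.exists_nat

end modules

end Cfsg.Agent.Omega.NO1.SzMod

end

section


/-!
# THEOREM SZ (406 #19896), CLAIM A

`SM.claim : m ∈ B0 H P → [m, t_a, t_b] = 0`, by induction on `|P|`. Consequences: `SM.fix_of_fix`, `SM.comm_fix`,
`SM.exists_comm`, `SM.card_fix`, `SM.card`.
-/

set_option autoImplicit false
set_option linter.unusedSectionVars false
set_option linter.style.haveILetI false

namespace Cfsg.Agent.Omega.NO1.SzMod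

open Cfsg.Agent.LieRecognition.SzMatrix Cfsg.Agent.ThreePrime.SzRel Cfsg.Agent.Omega.TwoFFour

universe u

variable {F : Type*} [Field F] {θ : F →+* F} {e : ℕ} {H : Good F θ e}

theorem vv {M : Type*} [AddCommGroup M] {X : AddSubgroup M} {a b : X} (h : a = b) : (a : M) = b :=
  congrArg Subtype.val h

section ops

variable {P : Type u} [AddCommGroup P] [DistribMulAction (LS F e) P]

/-- `X_a = t_a - 1` on `B0` -/
def XX (H : Good F θ e) (P : Type u) [AddCommGroup P] [DistribMulAction (LS F e) P] (a : F) :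
    B0 H P →+ B0 H P where
  toFun m := ⟨H.u a 0 • (m : P) - m, sub_mem (u_mem_B0 m.2 _ _) m.2⟩
  map_zero' := Subtype.ext (by show H.u a 0 • (0 : P) - 0 = 0; rw [smul_zero, sub_zero])
  map_add' x y := Subtype.ext (by
    show H.u a 0 • ((x : P) + y) - (x + y) = (H.u a 0 • (x : P) - x) + (H.u a 0 • (y : P) - y)
    rw [smul_add]; abel)

theorem XX_val (a : F) (m : B0 H P) : (XX H P a m : P) = H.u a 0 • (m : P) - m := rfl

/-- the unit `l θ(l)` -/
def kk (θ : F →+* F) (l : Fˣ) : Fˣ := l * Units.map (θ : F →* F) l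

theorem kk_val (l : Fˣ) : ((kk θ l : Fˣ) : F) = l * θ l := rfl

/-- the torus on `B0` -/
def dd (H : Good F θ e) (P : Type u) [AddCommGroup P] [DistribMulAction (LS F e) P] (l : Fˣ) :
    B0 H P →+ B0 H P where
  toFun m := ⟨H.d (kk θ l) • (m : P), d_mem_B0 m.2 _⟩
  map_zero' := Subtype.ext (smul_zero _)
  map_add' _ _ := Subtype.ext (smul_add _ _ _)

theorem dd_val (l : Fˣ) (m : B0 H P) : (dd H P l m : P) = H.d (kk θ l) • (m : P) := rfl

theorem u_u {m : P} (hm : m ∈ B0 H P) (a b : F) : H.u a 0 • H.u b 0 • m = H.u (a + b) 0 • m := by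
  rw [← mul_smul, H.u_mul, u_B0 hm]

theorem XX_add (a b : F) (m : B0 H P) :
    XX H P (a + b) m = XX H P a m + XX H P b m + XX H P a (XX H P b m) := by
  apply Subtype.ext
  show H.u (a + b) 0 • (m : P) - m = (H.u a 0 • (m : P) - m) + (H.u b 0 • (m : P) - m) +
    (H.u a 0 • (H.u b 0 • (m : P) - m) - (H.u b 0 • (m : P) - m))
  rw [smul_sub, u_u m.2]
  abel

theorem XX_comm (a b : F) (m : B0 H P) : XX H P a (XX H P b m) = XX H P b (XX H P a m) := by
  apply Subtype.ext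
  show H.u a 0 • (H.u b 0 • (m : P) - m) - (H.u b 0 • (m : P) - m) =
    H.u b 0 • (H.u a 0 • (m : P) - m) - (H.u a 0 • (m : P) - m)
  rw [smul_sub, smul_sub, u_u m.2, u_u m.2, add_comm a b]
  abel

theorem XX_zero (m : B0 H P) : XX H P 0 m = 0 := by
  apply Subtype.ext
  show H.u 0 0 • (m : P) - m = 0
  rw [H.u_zero, one_smul, sub_self]

theorem kk_tor (H : Good F θ e) (l : Fˣ) (a : F) :
    a * ((kk θ l : Fˣ) : F) ^ 2 * (θ (kk θ l : Fˣ))⁻¹ = θ l * a := by
  have h1 := l.ne_zero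
  have h2 := theta_ne_zero θ l
  rw [kk_val, map_mul, H.sq]
  field_simp

theorem kk_e1 (H : Good F θ e) (l : Fˣ) : θ (kk θ l : Fˣ) * ((kk θ l : Fˣ) : F)⁻¹ = l := by
  have h1 := l.ne_zero
  have h2 := theta_ne_zero θ l
  rw [kk_val, map_mul, H.sq]
  field_simp

theorem dd_XX (l : Fˣ) (a : F) (m : B0 H P) : dd H P l (XX H P a m) = XX H P (θ l * a) (dd H P l m) := by
  apply Subtype.ext
  show H.d (kk θ l) • (H.u a 0 • (m : P) - m) = H.u (θ l * a) 0 • H.d (kk θ l) • (m : P) - H.d (kk θ l) • (m : P)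
  have h1 := H.d_mul_u (kk θ l) a 0
  rw [kk_tor H, zero_mul] at h1
  rw [smul_sub, ← mul_smul, ← mul_smul, h1]

/-- `X_a m = 0`, `a ≠ 0`, gives `m = X_a n` -/
theorem SM.exists_XX [Finite P] (h : SM H P) {a : F} (ha : a ≠ 0) {m : B0 H P} (hm : XX H P a m = 0) :
    ∃ n : B0 H P, m = XX H P a n := by
  -- `t² = u 0 (a θ a)`
  have hθ : θ a ≠ 0 := (map_ne_zero θ).2 ha
  have hb : a * θ a ≠ 0 := mul_ne_zero ha hθ
  have hsq : H.u a 0 * H.u a 0 = H.u 0 (a * θ a) := by
    rw [H.u_mul]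
    congr 1
    · exact H.add_self a
    · ring
  obtain ⟨n, hn⟩ := h.c2 _ hb m m.2
  have h1 : H.u 0 (a * θ a) • n - n = H.u a 0 • (H.u a 0 • n - n) - (H.u a 0 • n - n) := by
    rw [← hsq, mul_smul, smul_sub]
    have h2 := h.two (H.u a 0 • n)
    have h3 : H.u a 0 • H.u a 0 • n - H.u a 0 • n - (H.u a 0 • n - n)
      = H.u a 0 • H.u a 0 • n + n - (H.u a 0 • n + H.u a 0 • n) := by abel
    rw [h3, h2, sub_zero, sub_eq_add_neg, neg_eq_of_add_eq_zero_left (h.two n)]
  set n' := H.u a 0 • n - n with hn'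
  have h2 : (m : P) = H.u a 0 • n' - n' := by rw [hn, h1]
  have h3 : H.u a 0 • (m : P) - m = 0 := congrArg Subtype.val hm
  have h4 : n' ∈ B0 H P := by
    apply h.c1 _ hb
    rw [← hsq, mul_smul]
    have h5 : H.u a 0 • n' = m + n' := by rw [h2]; abel
    rw [h5, smul_add, h5]
    rw [sub_eq_zero.1 h3]
    rw [← add_assoc, h.two, zero_add]
  exact ⟨⟨n', h4⟩, Subtype.ext h2⟩

end ops

/-- **CLAIM A**: `[B0, T, T] = 0`. -/
theorem SM.claim [Finite F] (h3 : 3 ≤ Nat.card F) : ∀ (n : ℕ) (P : Type u) [AddCommGroup P]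
    [DistribMulAction (LS F e) P] [Finite P], Nat.card P = n → SM H P →
      ∀ (m : B0 H P) (a b : F), XX H P a (XX H P b m) = 0 := by
  intro n
  induction n using Nat.strong_induction_on with
  | _ n ih =>
  intro P _ _ _ hn h m a b
  classical
  letI : Fintype F := Fintype.ofFinite F
  -- coordinates of a natural module
  have hfix : ∀ {Q : Type u} [AddCommGroup Q] [DistribMulAction (LS F e) Q] (f : Q → (Fin 4 → F)),
      Function.Bijective f → (∀ x y, f (x + y) = f x + f y) →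
      (∀ (g : LS F e) (m : Q), f (g • m) = mv g.1 (f m)) → ∀ q : Q, q ∈ B0 H Q ↔ f q 2 = 0 ∧ f q 3 = 0 := by
    intro Q _ _ f hf hadd hact q
    constructor
    · intro hq
      have h4 := congrArg f (hq 1)
      rw [hact] at h4
      have h5 : mv (H.U 0 1) (f q) = f q := h4
      rw [mv_U] at h5
      have h6 := congrFun h5 0
      have h7 := congrFun h5 1
      simp at h6 h7
      rw [h7] at h6
      simp at h6
      exact ⟨h6, h7⟩
    · rintro ⟨h4, h5⟩ c
      apply hf.1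
      rw [hact]
      show mv (H.U 0 c) (f q) = f q
      rw [mv_U]
      apply ext4 <;> simp [h4, h5]
  have hXXc : ∀ {Q : Type u} [AddCommGroup Q] [DistribMulAction (LS F e) Q] (f : Q → (Fin 4 → F)),
      Function.Bijective f → (∀ x y, f (x + y) = f x + f y) →
      (∀ (g : LS F e) (m : Q), f (g • m) = mv g.1 (f m)) → ∀ (q : Q), q ∈ B0 H Q → ∀ c : F,
        f (H.u c 0 • q - q) = ![c * f q 1, 0, 0, 0] := by
    intro Q _ _ f hf hadd hact q hq c
    obtain ⟨h4, h5⟩ := (hfix f hf hadd hact q).1 hq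
    have hsub : ∀ x y, f (x - y) = f x - f y := by
      intro x y
      have h6 := hadd (x - y) y
      rw [sub_add_cancel] at h6
      rw [h6]; abel
    rw [hsub, hact]
    show mv (H.U c 0) (f q) - f q = _
    rw [mv_U]
    apply ext4 <;> simp [h4, h5]
  rcases subsingleton_or_nontrivial P with hP | hP
  · exact Subtype.ext (Subsingleton.elim _ _)
  -- `M₁` minimal
  obtain ⟨X₁, hX₁, hX₁ne, hmin⟩ : ∃ X₁ : AddSubgroup P, Inv (F := F) (e := e) X₁ ∧ X₁ ≠ ⊥ ∧
      ∀ X : AddSubgroup P, Inv (F := F) (e := e) X → X ≤ X₁ → X = ⊥ ∨ X = X₁ := by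
    have hne : ({X : AddSubgroup P | Inv (F := F) (e := e) X ∧ X ≠ ⊥}).Nonempty :=
      ⟨⊤, fun _ _ _ => AddSubgroup.mem_top _, fun h4 => by
        obtain ⟨x, hx⟩ := exists_ne (0 : P)
        exact hx (AddSubgroup.mem_bot.1 (h4 ▸ AddSubgroup.mem_top x))⟩
    obtain ⟨X₁, hX₁⟩ := (Set.toFinite _).exists_minimal hne
    refine ⟨X₁, hX₁.prop.1, hX₁.prop.2, fun X hX hle => ?_⟩
    by_cases h4 : X = ⊥
    · exact Or.inl h4
    · exact Or.inr (le_antisymm hle (hX₁.le_of_le ⟨hX, h4⟩ hle))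
  -- irreducible sub
  obtain ⟨f, hf, hfadd, hfact, hfmem⟩ : ∃ f : X₁ → (Fin 4 → F), Function.Bijective f ∧
      (∀ x y, f (x + y) = f x + f y) ∧
      (∀ (g : LS F e) (m : X₁), f ⟨g • (m : P), hX₁ g _ m.2⟩ = mv g.1 (f m)) ∧
      (∀ q : X₁, (q : P) ∈ B0 H P ↔ f q 2 = 0 ∧ f q 3 = 0) := by
    letI := subAct (Y := LS F e) X₁ hX₁
    obtain ⟨h4, h5⟩ := h.sub hX₁
    obtain ⟨f, hf, hfadd, hfact⟩ := h4.exists_nat h3 (by
      by_contra hcon
      push Not at hcon
      apply hX₁ne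
      rw [eq_bot_iff]
      intro x hx
      exact AddSubgroup.mem_bot.2 (congrArg Subtype.val (hcon ⟨x, hx⟩))) (by
      intro X hX
      have h6 : Inv (F := F) (e := e) (X.map X₁.subtype) := by
        rintro g _ ⟨x, hx, rfl⟩
        exact ⟨g • x, hX g x hx, rfl⟩
      rcases hmin _ h6 (by rintro _ ⟨x, -, rfl⟩; exact x.2) with h7 | h7
      · left
        rw [eq_bot_iff]
        intro x hx
        have h8 : (x : P) ∈ X.map X₁.subtype := ⟨x, hx, rfl⟩
        rw [h7] at h8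
        exact AddSubgroup.mem_bot.2 (Subtype.ext (AddSubgroup.mem_bot.1 h8))
      · right
        rw [AddSubgroup.eq_top_iff']
        intro x
        have h8 : (x : P) ∈ X.map X₁.subtype := by rw [h7]; exact x.2
        obtain ⟨y, hy, hyx⟩ := h8
        have h9 : y = x := Subtype.ext hyx
        rwa [h9] at hy)
    exact ⟨f, hf, hfadd, hfact, fun q => (h5 q).symm.trans (hfix f hf hfadd hfact q)⟩
  by_cases htop : X₁ = ⊤
  · -- `P` irreducible
    have h4 : ∀ p : P, p ∈ X₁ := fun p => by rw [htop]; exact AddSubgroup.mem_top _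
    letI := subAct (Y := LS F e) X₁ hX₁
    obtain ⟨-, h5⟩ := h.sub hX₁
    have h6 : ∀ (q : P) (_ : q ∈ B0 H P) (c : F), f ⟨H.u c 0 • q - q, h4 _⟩ = ![c * f ⟨q, h4 q⟩ 1, 0, 0, 0] := by
      intro q hq c
      exact hXXc f hf hfadd hfact ⟨q, h4 q⟩ ((h5 _).2 hq) c
    apply Subtype.ext
    have h7 := h6 _ (XX H P b m).2 a
    have h8 := h6 _ m.2 b
    have h9 : f ⟨(XX H P b m : P), h4 _⟩ 1 = 0 := by
      have : f ⟨(XX H P b m : P), h4 _⟩ = ![b * f ⟨(m : P), h4 _⟩ 1, 0, 0, 0] := h8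
      rw [this]; rfl
    rw [h9, mul_zero] at h7
    have hz : f 0 = 0 := by
      have := hfadd 0 0
      rw [add_zero] at this
      exact left_eq_add.1 this
    have h10 : f ⟨H.u a 0 • (XX H P b m : P) - (XX H P b m : P), h4 _⟩ = f 0 := by
      rw [h7, hz]
      apply ext4 <;> simp
    have h11 := vv (hf.1 h10)
    exact h11
  -- `M₂` maximal over `M₁`
  obtain ⟨X₂, hX₂, hX₂ne, hle, hmax⟩ : ∃ X₂ : AddSubgroup P, Inv (F := F) (e := e) X₂ ∧ X₂ ≠ ⊤ ∧ X₁ ≤ X₂ ∧
      ∀ X : AddSubgroup P, Inv (F := F) (e := e) X → X₂ ≤ X → X = X₂ ∨ X = ⊤ := by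
    have hne : ({X : AddSubgroup P | Inv (F := F) (e := e) X ∧ X ≠ ⊤ ∧ X₁ ≤ X}).Nonempty :=
      ⟨X₁, hX₁, htop, le_rfl⟩
    obtain ⟨X₂, hX₂⟩ := (Set.toFinite _).exists_maximal hne
    refine ⟨X₂, hX₂.prop.1, hX₂.prop.2.1, hX₂.prop.2.2, fun X hX hle => ?_⟩
    by_cases h4 : X = ⊤
    · exact Or.inr h4
    · exact Or.inl (le_antisymm (hX₂.le_of_ge ⟨hX, h4, hX₂.prop.2.2.trans hle⟩ hle) hle)
  -- cards
  have hc1 : Nat.card (P ⧸ X₁) < n := by
    have h4 := AddSubgroup.card_eq_card_quotient_mul_card_addSubgroup X₁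
    have h5 : 1 < Nat.card X₁ := by
      rw [AddSubgroup.one_lt_card_iff_ne_bot]; exact hX₁ne
    have h6 : 0 < Nat.card (P ⧸ X₁) := Nat.card_pos
    rw [← hn, h4]
    nlinarith
  have hc2 : Nat.card X₂ < n := by
    rw [← hn]
    refine lt_of_le_of_ne (AddSubgroup.card_le_card_addGroup _) fun h4 => hX₂ne ?_
    exact AddSubgroup.eq_top_of_card_eq _ h4
  -- the induction hypotheses
  have ih1 : ∀ q ∈ B0 H P, ∀ a b : F, H.u a 0 • (H.u b 0 • q - q) - (H.u b 0 • q - q) ∈ X₁ := by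
    intro q hq a b
    letI := quoAct (Y := LS F e) X₁ hX₁
    obtain ⟨h4, h5⟩ := h.quo hX₁
    have h6 : (QuotientAddGroup.mk q : P ⧸ X₁) ∈ B0 H (P ⧸ X₁) := (h5 q).2 ⟨q, hq, by rw [sub_self]; exact X₁.zero_mem⟩
    have h7 := congrArg Subtype.val (ih _ hc1 (P ⧸ X₁) rfl h4 ⟨_, h6⟩ a b)
    exact (QuotientAddGroup.eq_zero_iff _).1 h7
  have ih1' : ∀ q ∈ B0 H P, ∀ a : F, a ≠ 0 → H.u a 0 • q - q ∈ X₁ →
      ∃ p ∈ B0 H P, q - (H.u a 0 • p - p) ∈ X₁ := by
    intro q hq a ha hqa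
    letI := quoAct (Y := LS F e) X₁ hX₁
    obtain ⟨h4, h5⟩ := h.quo hX₁
    have h6 : (QuotientAddGroup.mk q : P ⧸ X₁) ∈ B0 H (P ⧸ X₁) := (h5 q).2 ⟨q, hq, by rw [sub_self]; exact X₁.zero_mem⟩
    obtain ⟨⟨p, hp⟩, hp'⟩ := h4.exists_XX ha (m := ⟨_, h6⟩) (Subtype.ext ((QuotientAddGroup.eq_zero_iff _).2 hqa))
    have h7 := congrArg Subtype.val hp'
    induction p using QuotientAddGroup.induction_on with
    | H p =>
      obtain ⟨p', hp1, hp2⟩ := (h5 p).1 hp
      refine ⟨p', hp1, ?_⟩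
      have h8 : (QuotientAddGroup.mk q : P ⧸ X₁) = QuotientAddGroup.mk (H.u a 0 • p - p) := h7
      have h9 : q - (H.u a 0 • p - p) ∈ X₁ := by
        have := (QuotientAddGroup.eq (s := X₁)).1 h8.symm
        rwa [add_comm, ← sub_eq_add_neg] at this
      have h10 := X₁.add_mem h9 (X₁.sub_mem (hX₁ (H.u a 0) _ hp2) hp2)
      have h11 : q - (H.u a 0 • p - p) + (H.u a 0 • (p - p') - (p - p')) = q - (H.u a 0 • p' - p') := by
        rw [smul_sub]; abel
      rwa [h11] at h10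
  have ih2 : ∀ q ∈ B0 H P, q ∈ X₂ → ∀ a b : F, H.u a 0 • (H.u b 0 • q - q) - (H.u b 0 • q - q) = 0 := by
    intro q hq hqX a b
    letI := subAct (Y := LS F e) X₂ hX₂
    obtain ⟨h4, h5⟩ := h.sub hX₂
    have h6 : (⟨q, hqX⟩ : X₂) ∈ B0 H X₂ := (h5 _).2 hq
    have h7 := vv (vv (ih _ hc2 X₂ rfl h4 ⟨_, h6⟩ a b))
    exact h7
  have ih2' : ∀ q ∈ B0 H P, q ∈ X₂ → ∀ a : F, a ≠ 0 → H.u a 0 • q - q = 0 →
      ∃ p ∈ B0 H P, p ∈ X₂ ∧ q = H.u a 0 • p - p := by
    intro q hq hqX a ha hqa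
    letI := subAct (Y := LS F e) X₂ hX₂
    obtain ⟨h4, h5⟩ := h.sub hX₂
    have h6 : (⟨q, hqX⟩ : X₂) ∈ B0 H X₂ := (h5 _).2 hq
    obtain ⟨p, hp⟩ := h4.exists_XX ha (m := ⟨_, h6⟩) (Subtype.ext (Subtype.ext hqa))
    refine ⟨((p : X₂) : P), (h5 _).1 p.2, (p : X₂).2, ?_⟩
    have h7 := vv (vv hp)
    exact h7
  -- the top factor
  obtain ⟨f', hf', hf'add, hf'act, hf'mem, hf'lift⟩ : ∃ f' : P → (Fin 4 → F), (∀ v, ∃ p, f' p = v) ∧
      (∀ x y, f' (x + y) = f' x + f' y) ∧
      (∀ (g : LS F e) (m : P), f' (g • m) = mv g.1 (f' m)) ∧ (∀ p, f' p = 0 ↔ p ∈ X₂) ∧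
      (∀ p, (f' p 2 = 0 ∧ f' p 3 = 0) ↔ ∃ q ∈ B0 H P, p - q ∈ X₂) := by
    letI := quoAct (Y := LS F e) X₂ hX₂
    obtain ⟨h4, h5⟩ := h.quo hX₂
    obtain ⟨f', hf, hfadd, hfact⟩ := h4.exists_nat h3 (by
      by_contra hcon
      push Not at hcon
      apply hX₂ne
      rw [AddSubgroup.eq_top_iff']
      intro x
      exact (QuotientAddGroup.eq_zero_iff x).1 (hcon (QuotientAddGroup.mk x))) (by
      intro X hX
      have h6 : Inv (F := F) (e := e) (X.comap (QuotientAddGroup.mk' X₂)) := fun g x hx => hX g _ hx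
      rcases hmax _ h6 (by
        intro x hx
        show (QuotientAddGroup.mk x : P ⧸ X₂) ∈ X
        rw [(QuotientAddGroup.eq_zero_iff x).2 hx]
        exact X.zero_mem) with h7 | h7
      · left
        rw [eq_bot_iff]
        intro x hx
        induction x using QuotientAddGroup.induction_on with
        | H x =>
          have h8 : x ∈ X.comap (QuotientAddGroup.mk' X₂) := hx
          rw [h7] at h8
          exact AddSubgroup.mem_bot.2 ((QuotientAddGroup.eq_zero_iff x).2 h8)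
      · right
        rw [AddSubgroup.eq_top_iff']
        intro x
        induction x using QuotientAddGroup.induction_on with
        | H x =>
          have h8 : x ∈ X.comap (QuotientAddGroup.mk' X₂) := by rw [h7]; exact AddSubgroup.mem_top _
          exact h8)
    have hz : f' 0 = 0 := by
      have := hfadd 0 0
      rw [add_zero] at this
      exact left_eq_add.1 this
    refine ⟨fun p => f' (QuotientAddGroup.mk p), ?_,
      fun x y => hfadd (QuotientAddGroup.mk x) (QuotientAddGroup.mk y),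
      fun g m => hfact g (QuotientAddGroup.mk m), ?_, ?_⟩
    · intro v
      obtain ⟨p, hp⟩ := hf.2 v
      induction p using QuotientAddGroup.induction_on with
      | H p => exact ⟨p, hp⟩
    · intro p
      rw [← QuotientAddGroup.eq_zero_iff p, ← hz]
      exact hf.1.eq_iff
    · intro p
      rw [← h5 p]
      exact (hfix f' hf hfadd hfact _).symm
  have hf'sub : ∀ x y, f' (x - y) = f' x - f' y := by
    intro x y
    have h6 := hf'add (x - y) y
    rw [sub_add_cancel] at h6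
    rw [h6]; abel
  -- bottom coordinates
  have hfz : f 0 = 0 := by
    have := hfadd 0 0
    rw [add_zero] at this
    exact left_eq_add.1 this
  choose E hE using fun v => hf.2 v
  have hEadd : ∀ v w, E (v + w) = E v + E w := fun v w => hf.1 (by rw [hE, hfadd, hE, hE])
  have hEB : ∀ v : Fin 4 → F, v 2 = 0 → v 3 = 0 → (E v : P) ∈ B0 H P := fun v h4 h5 =>
    (hfmem _).2 (by rw [hE]; exact ⟨h4, h5⟩)
  have hEact : ∀ (g : LS F e) v, g • (E v : P) = E (mv g.1 v) := by
    intro g v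
    have h4 := hfact g (E v)
    rw [hE] at h4
    have h5 : (⟨g • (E v : P), hX₁ g _ (E v).2⟩ : X₁) = E (mv g.1 v) := hf.1 (by rw [h4, hE])
    exact congrArg Subtype.val h5
  let e₀ : F →+ B0 H P :=
    { toFun := fun c => ⟨E ![c, 0, 0, 0], hEB _ rfl rfl⟩
      map_zero' := Subtype.ext (by
        have h4 : E ![0, 0, 0, 0] = 0 := hf.1 (by rw [hE, hfz]; apply ext4 <;> simp)
        have h5 := vv h4
        exact h5)
      map_add' := fun c d => Subtype.ext (by
        have h4 : E ![c + d, 0, 0, 0] = E ![c, 0, 0, 0] + E ![d, 0, 0, 0] := by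
          rw [← hEadd]; congr 1; apply ext4 <;> simp
        have h5 := vv h4
        exact h5) }
  let e₁ : F →+ B0 H P :=
    { toFun := fun c => ⟨E ![0, c, 0, 0], hEB _ rfl rfl⟩
      map_zero' := Subtype.ext (by
        have h4 : E ![0, 0, 0, 0] = 0 := hf.1 (by rw [hE, hfz]; apply ext4 <;> simp)
        have h5 := vv h4
        exact h5)
      map_add' := fun c d => Subtype.ext (by
        have h4 : E ![0, c + d, 0, 0] = E ![0, c, 0, 0] + E ![0, d, 0, 0] := by
          rw [← hEadd]; congr 1; apply ext4 <;> simp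
        have h5 := vv h4
        exact h5) }
  let π₀ : B0 H P →+ F :=
    { toFun := fun m => f' m 0
      map_zero' := by
        have h4 : f' 0 = 0 := (hf'mem 0).2 X₂.zero_mem
        show f' (0 : P) 0 = 0
        rw [h4]; rfl
      map_add' := fun x y => by
        show f' ((x : P) + y) 0 = _
        rw [hf'add]; rfl }
  let π₁ : B0 H P →+ F :=
    { toFun := fun m => f' m 1
      map_zero' := by
        have h4 : f' 0 = 0 := (hf'mem 0).2 X₂.zero_mem
        show f' (0 : P) 1 = 0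
        rw [h4]; rfl
      map_add' := fun x y => by
        show f' ((x : P) + y) 1 = _
        rw [hf'add]; rfl }
  have hB23 : ∀ m : B0 H P, f' m 2 = 0 ∧ f' m 3 = 0 := fun m =>
    (hf'lift m).2 ⟨m, m.2, by rw [sub_self]; exact X₂.zero_mem⟩
  have hπ : ∀ m : B0 H P, π₀ m = 0 → π₁ m = 0 → (m : P) ∈ X₂ := by
    intro m h4 h5
    rw [← hf'mem]
    obtain ⟨h6, h7⟩ := hB23 m
    exact ext4 h4 h5 h6 h7
  have he₀X : ∀ c, ((e₀ c : B0 H P) : P) ∈ X₁ := fun c => (E _).2
  have he₁X : ∀ c, ((e₁ c : B0 H P) : P) ∈ X₁ := fun c => (E _).2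
  have hD1 : ∀ m : B0 H P, (m : P) ∈ X₁ → ∃ c d, m = e₀ c + e₁ d := by
    intro m hm
    obtain ⟨h4, h5⟩ := (hfmem ⟨m, hm⟩).1 m.2
    refine ⟨f ⟨m, hm⟩ 0, f ⟨m, hm⟩ 1, Subtype.ext ?_⟩
    have h6 : (⟨m, hm⟩ : X₁) = E ![f ⟨m, hm⟩ 0, 0, 0, 0] + E ![0, f ⟨m, hm⟩ 1, 0, 0] := by
      apply hf.1
      rw [← hEadd, hE]
      apply ext4 <;> simp [h4, h5]
    have h7 := vv h6
    exact h7
  have hXe₀ : ∀ a c, XX H P a (e₀ c) = 0 := by
    intro a c
    apply Subtype.ext
    show H.u a 0 • (E ![c, 0, 0, 0] : P) - E ![c, 0, 0, 0] = 0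
    rw [hEact]
    have h4 : mv (H.u a 0).1 ![c, 0, 0, 0] = ![c, 0, 0, 0] := by
      show mv (H.U a 0) _ = _
      rw [mv_U]
      apply ext4 <;> simp
    rw [h4, sub_self]
  have hXe₁ : ∀ a c, XX H P a (e₁ c) = e₀ (a * c) := by
    intro a c
    apply Subtype.ext
    show H.u a 0 • (E ![0, c, 0, 0] : P) - E ![0, c, 0, 0] = E ![a * c, 0, 0, 0]
    rw [hEact]
    have h4 : mv (H.u a 0).1 ![0, c, 0, 0] = ![a * c, 0, 0, 0] + ![0, c, 0, 0] := by
      show mv (H.U a 0) _ = _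
      rw [mv_U]
      apply ext4 <;> simp
    rw [h4, hEadd]
    show (E ![a * c, 0, 0, 0] : P) + E ![0, c, 0, 0] - E ![0, c, 0, 0] = _
    rw [add_sub_cancel_right]
  have hcore : Core θ (B0 H P) (XX H P) (dd H P) e₀ e₁ π₀ π₁ :=
    { two := H.add_self
      sq := H.sq
      ne_id := by
        obtain ⟨c, hc0, hc1⟩ := exists_ne_ne h3
        by_contra hcon
        push Not at hcon
        have h4 := H.sq c
        rw [hcon, hcon] at h4
        have h5 : c * (c - 1) = 0 := by linear_combination -h4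
        rcases mul_eq_zero.1 h5 with h6 | h6
        · exact hc0 h6
        · exact hc1 (sub_eq_zero.1 h6)
      twoB := fun m => Subtype.ext (h.two m)
      X_add := XX_add
      X_comm := XX_comm
      X_zero := XX_zero
      δ_X := dd_XX
      X_e₀ := hXe₀
      X_e₁ := hXe₁
      δ_e₀ := by
        intro l c
        apply Subtype.ext
        show H.d (kk θ l) • (E ![c, 0, 0, 0] : P) = E ![l * θ l * c, 0, 0, 0]
        rw [hEact]
        have h4 : mv (H.d (kk θ l)).1 ![c, 0, 0, 0] = ![l * θ l * c, 0, 0, 0] := by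
          show mv (H.D (kk θ l)) _ = _
          rw [mv_D]
          apply ext4 <;> simp [kk_val]
        rw [h4]
      e₀_inj := by
        intro c d hcd
        have h4 : (E ![c, 0, 0, 0] : P) = E ![d, 0, 0, 0] := by
          have h6 := vv hcd
          exact h6
        have h5 := congrArg f (Subtype.ext h4 : E ![c, 0, 0, 0] = E ![d, 0, 0, 0])
        rw [hE, hE] at h5
        exact congrFun h5 0
      π₀_e₀ := fun c => by
        show f' (e₀ c : P) 0 = 0
        rw [(hf'mem _).2 (hle (he₀X c))]; rfl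
      π₀_e₁ := fun c => by
        show f' (e₁ c : P) 0 = 0
        rw [(hf'mem _).2 (hle (he₁X c))]; rfl
      π₁_e₀ := fun c => by
        show f' (e₀ c : P) 1 = 0
        rw [(hf'mem _).2 (hle (he₀X c))]; rfl
      π₁_e₁ := fun c => by
        show f' (e₁ c : P) 1 = 0
        rw [(hf'mem _).2 (hle (he₁X c))]; rfl
      π₁_X := by
        intro a m
        obtain ⟨h4, h5⟩ := hB23 m
        show f' (H.u a 0 • (m : P) - m) 1 = 0
        rw [hf'sub, hf'act]
        show mv (H.U a 0) (f' m) 1 - f' m 1 = 0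
        rw [mv_U]
        simp [h4, h5]
      π₀_X := by
        intro a m
        obtain ⟨h4, h5⟩ := hB23 m
        show f' (H.u a 0 • (m : P) - m) 0 = a * f' m 1
        rw [hf'sub, hf'act]
        show mv (H.U a 0) (f' m) 0 - f' m 0 = a * f' m 1
        rw [mv_U]
        simp [h4, h5]
      π₁_δ := by
        intro l m
        show f' (H.d (kk θ l) • (m : P)) 1 = l * f' m 1
        rw [hf'act]
        show mv (H.D (kk θ l)) (f' m) 1 = l * f' m 1
        rw [mv_D, ← kk_e1 H l]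
        rfl
      π₀_δ := by
        intro l m
        show f' (H.d (kk θ l) • (m : P)) 0 = l * θ l * f' m 0
        rw [hf'act]
        show mv (H.D (kk θ l)) (f' m) 0 = l * θ l * f' m 0
        rw [mv_D]
        rfl
      π_surj := by
        obtain ⟨p, hp⟩ := hf' ![0, 1, 0, 0]
        obtain ⟨q, hq, hpq⟩ := (hf'lift p).1 (by rw [hp]; exact ⟨rfl, rfl⟩)
        refine ⟨⟨q, hq⟩, ?_⟩
        show f' q 1 = 1
        have h4 := (hf'mem _).2 hpq
        rw [hf'sub, hp] at h4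
        have h5 := congrFun h4 1
        have h6 : (1 : F) - f' q 1 = 0 := h5
        linear_combination -h6
      top := fun a b m => hD1 _ (ih1 m m.2 a b)
      top' := by
        intro y hy a
        rcases eq_or_ne a 0 with rfl | ha
        · exact ⟨0, by rw [XX_zero, map_zero]⟩
        · obtain ⟨c, d, hcd⟩ := hy a
          have h4 : H.u a 0 • (y : P) - y ∈ X₁ := by
            have h5 : ((XX H P a y : B0 H P) : P) = ((e₀ c + e₁ d : B0 H P) : P) := congrArg Subtype.val hcd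
            rw [XX_val] at h5
            rw [h5]
            exact X₁.add_mem (he₀X c) (he₁X d)
          obtain ⟨p, hp, hyp⟩ := ih1' y y.2 a ha h4
          obtain ⟨c', d', hcd'⟩ := hD1 (y - XX H P a ⟨p, hp⟩) hyp
          refine ⟨a * d', ?_⟩
          have h5 : y = XX H P a ⟨p, hp⟩ + (e₀ c' + e₁ d') := by rw [← hcd']; abel
          have h6 : XX H P a (XX H P a ⟨p, hp⟩) = 0 := by
            have h7 := XX_add a a (⟨p, hp⟩ : B0 H P)
            rw [H.add_self, XX_zero] at h7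
            have h8 : XX H P a (⟨p, hp⟩ : B0 H P) + XX H P a ⟨p, hp⟩ = 0 := Subtype.ext (h.two _)
            rw [h8, zero_add] at h7
            exact h7.symm
          conv_lhs => rw [h5]
          rw [map_add, map_add, h6, hXe₀, hXe₁, zero_add, zero_add]
      bot := fun m h4 h5 a b => Subtype.ext (ih2 m m.2 (hπ m h4 h5) a b)
      bot' := by
        intro m h4 h5 h6 a
        obtain ⟨p, hp, hpX, hmp⟩ := ih2' m m.2 (hπ m h4 h5) 1 one_ne_zero (congrArg Subtype.val h6)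
        apply Subtype.ext
        show H.u a 0 • (m : P) - m = 0
        rw [hmp]
        exact ih2 p hp hpX a 1 }
  exact hcore.claim m a b

section cor

variable {P : Type u} [AddCommGroup P] [DistribMulAction (LS F e) P] [Finite F] [Finite P]

/-- (ii) `[B0, T]` is centralised by `T` -/
theorem SM.comm_fix (h3 : 3 ≤ Nat.card F) (h : SM H P) {m : P} (hm : m ∈ B0 H P) (a b a' b' : F) :
    H.u a' b' • (H.u a b • m - m) = H.u a b • m - m := by
  have h1 := vv (SM.claim h3 _ P rfl h ⟨m, hm⟩ a' a)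
  have h2 : H.u a' 0 • (H.u a 0 • m - m) - (H.u a 0 • m - m) = 0 := h1
  rw [u_B0 hm, u_B0 (sub_mem (u_mem_B0 hm a 0) hm), ← sub_eq_zero]
  exact h2

/-- (iii) `C_P(T) ≤ [B0, t]` -/
theorem SM.exists_comm (h : SM H P) {m : P} {a b : F} (ha : a ≠ 0) (hm : m ∈ B0 H P) (hfix : H.u a b • m = m) :
    ∃ n ∈ B0 H P, m = H.u a b • n - n := by
  have h1 : XX H P a ⟨m, hm⟩ = 0 := by
    apply Subtype.ext
    show H.u a 0 • m - m = 0
    rw [← u_B0 hm a b, hfix, sub_self]
  obtain ⟨n, hn⟩ := h.exists_XX ha h1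
  refine ⟨n, n.2, ?_⟩
  rw [u_B0 n.2]
  exact vv hn

/-- (i) an element of `B0` fixed by one `t ∈ T - Z` is fixed by `T` -/
theorem SM.fix_of_fix (h3 : 3 ≤ Nat.card F) (h : SM H P) {m : P} {a b : F} (ha : a ≠ 0) (hm : m ∈ B0 H P)
    (hfix : H.u a b • m = m) (a' b' : F) : H.u a' b' • m = m := by
  obtain ⟨n, hn, hmn⟩ := h.exists_comm ha hm hfix
  rw [hmn]
  exact h.comm_fix h3 hn a b a' b'

/-- `C_P(T)` -/
def TT (H : Good F θ e) (P : Type u) [AddCommGroup P] [DistribMulAction (LS F e) P] : AddSubgroup P where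
  carrier := {m | Fx H m}
  zero_mem' := Fx.zero
  add_mem' := Fx.add
  neg_mem' := Fx.neg

theorem mem_TT {m : P} : m ∈ TT H P ↔ ∀ a b, H.u a b • m = m := Iff.rfl

theorem TT_le : TT H P ≤ B0 H P := fun _ hm c => hm 0 c

/-- (iv) `|B0| = |C_P(T)|²` -/
theorem SM.card_TT (h3 : 3 ≤ Nat.card F) (h : SM H P) : Nat.card (B0 H P) = Nat.card (TT H P) * Nat.card (TT H P) := by
  have h1 : Nat.card (XX H P 1).ker = Nat.card (TT H P) := by
    refine Nat.card_congr ⟨fun x => ⟨(x : B0 H P), fun a b => ?_⟩, fun y => ⟨⟨y, TT_le y.2⟩, ?_⟩, ?_, ?_⟩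
    · have h4 := vv (AddMonoidHom.mem_ker.1 x.2)
      have h5 : H.u 1 0 • ((x : B0 H P) : P) - (x : B0 H P) = 0 := h4
      exact h.fix_of_fix h3 one_ne_zero (x : B0 H P).2 (sub_eq_zero.1 h5) a b
    · exact AddMonoidHom.mem_ker.2 (Subtype.ext (sub_eq_zero.2 (y.2 1 0)))
    · intro x; rfl
    · intro y; rfl
  have h2 : Nat.card (XX H P 1).range = Nat.card (TT H P) := by
    refine Nat.card_congr ⟨fun x => ⟨(x : B0 H P), fun a b => ?_⟩, fun y => ⟨⟨y, TT_le y.2⟩, ?_⟩, ?_, ?_⟩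
    · obtain ⟨_, ⟨n, rfl⟩⟩ := x
      exact h.comm_fix h3 n.2 1 0 a b
    · obtain ⟨n, hn, hyn⟩ := h.exists_comm one_ne_zero (TT_le y.2) (y.2 1 0)
      exact ⟨⟨n, hn⟩, Subtype.ext hyn.symm⟩
    · intro x; rfl
    · intro y; rfl
  rw [AddSubgroup.card_eq_card_quotient_mul_card_addSubgroup (XX H P 1).ker, h1,
    Nat.card_congr (QuotientAddGroup.quotientKerEquivRange (XX H P 1)).toEquiv, h2]

/-- `|P| = |B0|²` -/
theorem SM.card (h : SM H P) : Nat.card P = Nat.card (B0 H P) * Nat.card (B0 H P) := by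
  have h1 := (h.card_X (X := ⊤) (fun _ _ _ => AddSubgroup.mem_top _)).1
  rw [AddSubgroup.card_top, top_inf_eq] at h1
  exact h1

end cor

end Cfsg.Agent.Omega.NO1.SzMod

end

end

-- merged: Cfsg.Agent.Mrg.Omega.NO1.SzMod.Plug
section

/-!
# FIELD-4 of the N1 package: `szOut : Field.SzOut` (CLAIM A of THEOREM SZ, 406 #19896)

`exists_out` : all the fields of `SzOut`, and `K = C_{B₀}(T)`, `K = [B₀, t]` for every `t ∈ T - A₀`.
-/

set_option autoImplicit false
set_option linter.unusedSectionVars false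
set_option linter.style.haveILetI false

namespace Cfsg.Agent.Omega.NO1.SzMod

open Cfsg.Agent.LieRecognition.SzMatrix Cfsg.Agent.ThreePrime.SzRel Cfsg.Agent.Omega.TwoFFour
open Cfsg.Agent.Omega.NOne.Flat (Spr)
open Cfsg.Agent.Omega.NO1.Field (IsSz SzOut)

universe u

/-- the additive module of a group of automorphisms -/
@[reducible] def addAct {M : Type u} [CommGroup M] {Y : Type*} [Group Y] (φ : Y →* MulAut M) :
    DistribMulAction Y (Additive M) where
  smul g m := Additive.ofMul (φ g m.toMul)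
  one_smul m := by show Additive.ofMul (φ 1 m.toMul) = m; rw [map_one]; rfl
  mul_smul x y m := by
    show Additive.ofMul (φ (x * y) m.toMul) = Additive.ofMul (φ x (φ y m.toMul))
    rw [map_mul]; rfl
  smul_zero g := by show Additive.ofMul (φ g 1) = 0; rw [map_one]; rfl
  smul_add g a b := by
    show Additive.ofMul (φ g (a.toMul * b.toMul)) = Additive.ofMul (φ g a.toMul) + Additive.ofMul (φ g b.toMul)
    rw [map_mul]; rfl

/-- `q² (q² + 1) (q - 1)` has 2-part `q²` -/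
theorem card_sylow {L : Type*} [Group L] [Finite L] {q n : ℕ} (hq : q = 2 ^ n) (h4 : 4 ≤ q)
    (hL : Nat.card L = q ^ 2 * (q ^ 2 + 1) * (q - 1)) (P : Sylow 2 L) : Nat.card P = q ^ 2 := by
  have : Fact (Nat.Prime 2) := ⟨Nat.prime_two⟩
  have hn : 1 ≤ n := by
    rcases Nat.eq_zero_or_pos n with h | h
    · rw [h] at hq; omega
    · exact h
  have h2q : 2 ∣ q := by rw [hq]; exact dvd_pow_self 2 (by omega)
  have h1 : ¬ 2 ∣ (q ^ 2 + 1) * (q - 1) := by
    rw [Nat.Prime.dvd_mul Nat.prime_two]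
    rintro (h | h)
    · have : 2 ∣ q ^ 2 := dvd_pow h2q (by norm_num)
      omega
    · omega
  rw [P.card_eq_multiplicity, hL, mul_assoc, Nat.factorization_mul (by positivity) (by
    intro h; rw [h] at h1; exact h1 (dvd_zero _)), Finsupp.add_apply,
    Nat.factorization_eq_zero_of_not_dvd h1, add_zero, hq, ← pow_mul]
  rw [Nat.Prime.factorization_pow Nat.prime_two, Finsupp.single_eq_same]

/-- **CLAIM A over `Spr`**. -/
theorem exists_out (M : Type u) [Group M] [Finite M] (B : Bool → Subgroup M) (A : Bool → Subgroup (MulAut M))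
    (h : Spr B A) (h4 : 4 ≤ Nat.card (A false)) (hs : IsSz ↥(A false ⊔ A true) (Nat.card (A false))) :
    ∃ (T : Subgroup (MulAut M)) (K : Subgroup M), A false ≤ T ∧ T ≤ A false ⊔ A true ∧
        Nat.card T = Nat.card (A false) ^ 2 ∧ (∀ t ∈ T, ∀ a ∈ A false, t * a = a * t) ∧
        (∀ t ∈ T, ∀ m ∈ B false, t m ∈ B false) ∧ K ≤ B false ∧ Nat.card K ^ 2 = Nat.card (B false) ∧
        (∀ t ∈ T, ∀ m ∈ B false, t m * m⁻¹ ∈ K) ∧ (∀ t ∈ T, ∀ m ∈ K, t m = m) ∧
        (∀ t ∈ T, (∀ m ∈ B false, t m = m) → t ∈ A false) ∧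
        (∀ m ∈ B false, (∀ t ∈ T, t m = m) → m ∈ K) ∧
        (∀ t ∈ T, t ∉ A false → ∀ m ∈ B false, t m = m → m ∈ K) ∧
        (∀ t ∈ T, t ∉ A false → ∀ m ∈ K, ∃ m' ∈ B false, m = t m' * m'⁻¹) ∧
        (∃ t ∈ T, t ∉ A false) := by
  have : Fact (Nat.Prime 2) := ⟨Nat.prime_two⟩
  have hfin : Finite (MulAut M) := Finite.of_injective (fun f : MulAut M => (f : M → M)) DFunLike.coe_injective
  obtain ⟨hsz, hcard⟩ := hs
  set L : Subgroup (MulAut M) := A false ⊔ A true with hLdef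
  have hAL : A false ≤ L := le_sup_left
  -- `|A₀|` is a power of 2
  have hA2 : IsPGroup 2 (A false) := by
    intro a
    refine ⟨1, Subtype.ext ?_⟩
    rw [pow_one]
    show (a : MulAut M) ^ 2 = 1
    rw [sq]
    exact h.Asq false a a.2
  obtain ⟨n, hn⟩ := IsPGroup.iff_card.1 hA2
  have hA2' : IsPGroup 2 ((A false).subgroupOf L) :=
    hA2.of_injective (Subgroup.subgroupOfEquivOfLe hAL).toMonoidHom (Subgroup.subgroupOfEquivOfLe hAL).injective
  obtain ⟨P, hP⟩ := hA2'.exists_le_sylow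
  have hPc := card_sylow hn h4 hcard P
  obtain ⟨F, iF, iF', m, hF, hm, f, hf⟩ := exists_coord hsz P
  set H := good hF with hHdef
  have h3 : 3 ≤ Nat.card F := by
    rw [Nat.card_eq_fintype_card, hF]
    calc 3 ≤ 2 ^ 3 := by norm_num
      _ ≤ 2 ^ (2 * m + 1) := Nat.pow_le_pow_right (by norm_num) (by omega)
  -- `|P| = |F|²`
  have hPF : Nat.card P = Nat.card F ^ 2 := by
    have e : P ≃ F × F := by
      refine Equiv.symm (Equiv.ofBijective (fun p : F × F => (⟨f.symm (H.u p.1 p.2), (hf _).2 ⟨p.1, p.2, by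
        rw [MulEquiv.apply_symm_apply]⟩⟩ : P)) ⟨?_, ?_⟩)
      · rintro ⟨a, b⟩ ⟨c, d⟩ hab
        have h5 := f.symm.injective (congrArg Subtype.val hab)
        obtain ⟨h6, h7⟩ := H.u_inj h5
        exact Prod.ext h6 h7
      · intro x
        obtain ⟨a, b, hab⟩ := (hf x).1 x.2
        exact ⟨(a, b), Subtype.ext (by
          show f.symm (H.u a b) = x
          rw [← hab, MulEquiv.symm_apply_apply])⟩
    rw [Nat.card_congr e, Nat.card_prod, sq]
  have hqF : Nat.card (A false) = Nat.card F := by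
    have h5 : Nat.card (A false) ^ 2 = Nat.card F ^ 2 := by rw [← hPc, hPF]
    exact Nat.pow_left_injective (n := 2) (by norm_num) h5
  -- `A₀ = {u 0 b}`
  have hAu : ∀ x : L, (x : MulAut M) ∈ A false → ∃ b, f x = H.u 0 b := by
    intro x hx
    have h5 : x ∈ (P : Subgroup L) := hP (Subgroup.mem_subgroupOf.2 hx)
    obtain ⟨a, b, hab⟩ := (hf x).1 h5
    have h6 : x * x = 1 := Subtype.ext (h.Asq false x hx)
    have h7 : H.u a b * H.u a b = 1 := by rw [← hab, ← map_mul, h6, map_one]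
    rw [of_sq H h7] at hab
    exact ⟨b, hab⟩
  have hAu' : ∀ b, ((f.symm (H.u 0 b) : L) : MulAut M) ∈ A false := by
    intro b
    have h5 : H.u 0 b ∈ ((A false).subgroupOf L).map f.toMonoidHom := by
      refine omega_of_card H ?_ ?_ b
      · rintro _ ⟨x, hx, rfl⟩
        exact hAu x (Subgroup.mem_subgroupOf.1 hx)
      · rw [← hqF, Nat.card_congr (Subgroup.equivMapOfInjective _ _ f.injective).symm.toEquiv,
          Nat.card_congr (Subgroup.subgroupOfEquivOfLe hAL).toEquiv]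
    obtain ⟨x, hx, hxb⟩ := h5
    have h6 : f.symm (H.u 0 b) = x := by rw [← hxb]; exact f.symm_apply_apply x
    rw [h6]
    exact Subgroup.mem_subgroupOf.1 hx
  -- the module
  letI : CommGroup M := { ‹Group M› with mul_comm := h.comm }
  let φ : LS F (2 ^ (m + 1)) →* MulAut M := L.subtype.comp f.symm.toMonoidHom
  have hφ : ∀ g, φ g = ((f.symm g : L) : MulAut M) := fun g => rfl
  have hφA : ∀ b, φ (H.u 0 b) ∈ A false := hAu'
  have hφne : ∀ b, b ≠ 0 → φ (H.u 0 b) ≠ 1 := by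
    intro b hb h5
    have h6 : f.symm (H.u 0 b) = 1 := Subtype.ext h5
    have h7 : H.u 0 b = 1 := by rw [← f.apply_symm_apply (H.u 0 b), h6, map_one]
    rw [← H.u_zero] at h7
    exact hb (H.u_inj h7).2
  letI := addAct φ
  have hact : ∀ g (x : M), g • Additive.ofMul x = Additive.ofMul (φ g x) := fun _ _ => rfl
  have hB0 : ∀ x : M, Additive.ofMul x ∈ B0 H (Additive M) ↔ x ∈ B false := by
    intro x
    constructor
    · intro hx
      exact h.free false _ (hφA 1) (hφne 1 one_ne_zero) x (Additive.ofMul.injective (hx 1))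
    · intro hx c
      exact congrArg Additive.ofMul (h.fix false _ (hφA c) x hx)
  have hsub : ∀ g (x : M), g • Additive.ofMul x - Additive.ofMul x = Additive.ofMul (φ g x * x⁻¹) := by
    intro g x
    rw [hact, sub_eq_add_neg]; rfl
  have hSM : SM H (Additive M) := by
    refine ⟨fun x => ?_, ?_, ?_, ?_, ?_⟩
    · exact congrArg Additive.ofMul (h.sq x.toMul)
    · intro b c x
      have h5 : φ (H.u 0 c) x.toMul * x.toMul⁻¹ ∈ B false := h.into false _ (hφA c) _
      have h6 : H.u 0 c • x - x = Additive.ofMul (φ (H.u 0 c) x.toMul * x.toMul⁻¹) := hsub _ x.toMul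
      rw [h6]
      exact (hB0 _).2 h5 b
    · intro b hb x hx
      exact (hB0 x.toMul).2 (h.free false _ (hφA b) (hφne b hb) _ (Additive.ofMul.injective hx))
    · intro b hb x hx
      have hx' : x.toMul ∈ B false := (hB0 x.toMul).1 hx
      -- `B true → B false` injective
      let g : B true → B false := fun y => ⟨φ (H.u 0 b) y * (y : M)⁻¹, h.into false _ (hφA b) _⟩
      have hg : Function.Injective g := by
        intro y z hyz
        have h5 : φ (H.u 0 b) y * (y : M)⁻¹ = φ (H.u 0 b) z * (z : M)⁻¹ := congrArg Subtype.val hyz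
        have h6 : φ (H.u 0 b) ((y : M) * (z : M)⁻¹) = (y : M) * (z : M)⁻¹ := by
          rw [map_mul, map_inv]
          calc φ (H.u 0 b) y * (φ (H.u 0 b) z)⁻¹ = (φ (H.u 0 b) y * (y : M)⁻¹) * (y * (φ (H.u 0 b) z)⁻¹) := by
                rw [mul_assoc, inv_mul_cancel_left]
            _ = (φ (H.u 0 b) z * (z : M)⁻¹) * (y * (φ (H.u 0 b) z)⁻¹) := by rw [h5]
            _ = (y : M) * (z : M)⁻¹ := by
              rw [mul_comm (φ (H.u 0 b) (z : M)) _, mul_comm (y : M) (φ (H.u 0 b) (z : M))⁻¹, mul_assoc,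
                mul_inv_cancel_left, mul_comm]
        have h7 : (y : M) * (z : M)⁻¹ ∈ B false := h.free false _ (hφA b) (hφne b hb) _ h6
        have h8 : (y : M) * (z : M)⁻¹ ∈ B false ⊓ B true := ⟨h7, (B true).mul_mem y.2 ((B true).inv_mem z.2)⟩
        rw [h.disj, Subgroup.mem_bot] at h8
        exact Subtype.ext (mul_inv_eq_one.1 h8)
      have hbij := hg.bijective_of_nat_card_le (le_of_eq h.card)
      obtain ⟨y, hy⟩ := hbij.2 ⟨x.toMul, hx'⟩
      refine ⟨Additive.ofMul (y : M), ?_⟩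
      rw [hsub]
      have h5 : φ (H.u 0 b) y * (y : M)⁻¹ = x.toMul := congrArg Subtype.val hy
      rw [h5]; rfl
    · intro x hx hwx
      have hx' : x.toMul ∈ B false := (hB0 x.toMul).1 hx
      have hwx' : φ H.w x.toMul ∈ B false := (hB0 _).1 hwx
      rcases h.spread false false (φ H.w) (f.symm H.w).2 with h5 | h5
      · exfalso
        have h6 := h.stab false false (φ H.w) (f.symm H.w).2 h5
        have h7 : MulAut.conj (φ H.w) (φ (H.u 0 1)) ∈ A false := by
          rw [← h6]; exact ⟨_, hφA 1, rfl⟩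
        have h8 : MulAut.conj (φ H.w) (φ (H.u 0 1)) = φ (H.w * H.u 0 1 * H.w) := by
          rw [MulAut.conj_apply, ← map_inv, H.w_inv, ← map_mul, ← map_mul]
        rw [h8, hφ] at h7
        obtain ⟨b, hb⟩ := hAu _ h7
        rw [MulEquiv.apply_symm_apply] at hb
        have h9 := congrArg (fun g : LS F (2 ^ (m + 1)) => mv g.1 ![1, 0, 0, 0] 2) hb
        have h10 : mv (W F * H.U 0 1 * W F) ![1, 0, 0, 0] 2 = mv (H.U 0 b) ![1, 0, 0, 0] 2 := h9
        rw [mv_mul, mv_mul, mv_W, mv_U, mv_W, mv_U] at h10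
        simp at h10
      · have h6 : φ H.w x.toMul ∈ (B false).map ((φ H.w : MulAut M) : M ≃* M).toMonoidHom ⊓ B false :=
          ⟨⟨_, hx', rfl⟩, hwx'⟩
        rw [h5, Subgroup.mem_bot] at h6
        have h7 : x.toMul = 1 := by
          have h8 : φ H.w x.toMul = φ H.w 1 := by rw [h6, map_one]
          exact (φ H.w).injective h8
        exact Additive.toMul.injective h7
  -- the output
  let T : Subgroup (MulAut M) := (P : Subgroup L).map L.subtype
  have hT : ∀ t, t ∈ T ↔ ∃ a b, t = φ (H.u a b) := by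
    intro t
    constructor
    · rintro ⟨x, hx, rfl⟩
      obtain ⟨a, b, hab⟩ := (hf x).1 hx
      refine ⟨a, b, ?_⟩
      rw [hφ, ← hab, MulEquiv.symm_apply_apply]; rfl
    · rintro ⟨a, b, rfl⟩
      exact ⟨f.symm (H.u a b), (hf _).2 ⟨a, b, by rw [MulEquiv.apply_symm_apply]⟩, rfl⟩
  have hTA : ∀ a b, φ (H.u a b) ∉ A false → a ≠ 0 := by
    rintro a b h5 rfl
    exact h5 (hφA b)
  have hne1 : φ (H.u 1 0) ∉ A false := by
    intro h5
    obtain ⟨b, hb⟩ := hAu (f.symm (H.u 1 0)) h5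
    rw [MulEquiv.apply_symm_apply] at hb
    exact one_ne_zero (H.u_inj hb).1
  let K : Subgroup M :=
    { carrier := {x | Fx H (Additive.ofMul x)}
      one_mem' := Fx.zero (H := H) (P := Additive M)
      mul_mem' := fun {a b} ha hb => Fx.add (P := Additive M) ha hb
      inv_mem' := fun {a} ha => Fx.neg (P := Additive M) ha }
  have hK : ∀ x, x ∈ K ↔ Fx H (Additive.ofMul x) := fun x => Iff.rfl
  have hKB : K ≤ B false := fun x hx => (hB0 x).1 (TT_le (P := Additive M) hx)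
  refine ⟨T, K, ?_, ?_, ?_, ?_, ?_, hKB, ?_, ?_, ?_, ?_, ?_, ?_, ?_, ?_⟩
  · intro a ha
    obtain ⟨b, hb⟩ := hAu ⟨a, hAL ha⟩ ha
    refine (hT a).2 ⟨0, b, ?_⟩
    rw [hφ, ← hb, MulEquiv.symm_apply_apply]
  · rintro _ ⟨x, -, rfl⟩
    exact x.2
  · have h5 : Nat.card T = Nat.card P :=
      (Nat.card_congr (Subgroup.equivMapOfInjective _ _ L.subtype_injective).toEquiv).symm
    rw [h5, hPc]
  · intro t ht a ha
    obtain ⟨x, y, rfl⟩ := (hT t).1 ht
    obtain ⟨b, hb⟩ := hAu ⟨a, hAL ha⟩ ha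
    have h5 : a = φ (H.u 0 b) := by rw [hφ, ← hb, MulEquiv.symm_apply_apply]
    rw [h5, ← map_mul, ← map_mul, H.u_mul, H.u_mul]
    congr 2
    · ring
    · rw [map_zero]; ring
  · intro t ht x hx
    obtain ⟨a, b, rfl⟩ := (hT t).1 ht
    exact (hB0 _).1 (u_mem_B0 ((hB0 x).2 hx) a b)
  · have h5 : Nat.card K = Nat.card (TT H (Additive M)) :=
      Nat.card_congr ⟨fun x => ⟨Additive.ofMul (x : M), x.2⟩, fun x => ⟨(x : Additive M).toMul, x.2⟩,
        fun _ => rfl, fun _ => rfl⟩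
    have h6 : Nat.card (B false) = Nat.card (B0 H (Additive M)) :=
      Nat.card_congr ⟨fun x => ⟨Additive.ofMul (x : M), (hB0 _).2 x.2⟩,
        fun x => ⟨(x : Additive M).toMul, (hB0 _).1 x.2⟩, fun _ => rfl, fun _ => rfl⟩
    rw [h5, h6, sq, ← hSM.card_TT h3]
  · intro t ht x hx
    obtain ⟨a, b, rfl⟩ := (hT t).1 ht
    rw [hK]
    intro a' b'
    have h5 := hSM.comm_fix h3 ((hB0 x).2 hx) a b a' b'
    rw [hsub] at h5
    exact h5
  · intro t ht x hx
    obtain ⟨a, b, rfl⟩ := (hT t).1 ht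
    exact Additive.ofMul.injective (hx a b)
  · intro t ht hfix
    by_contra hcon
    obtain ⟨a, b, rfl⟩ := (hT t).1 ht
    have ha := hTA a b hcon
    apply h.ne false
    rw [eq_bot_iff]
    intro x hx
    obtain ⟨y, hy, hxy⟩ := hSM.exists_comm ha ((hB0 x).2 hx) (congrArg Additive.ofMul (hfix x hx))
    have h6 : H.u a b • y = y := congrArg Additive.ofMul (hfix y.toMul ((hB0 _).1 hy))
    rw [h6, sub_self] at hxy
    exact Subgroup.mem_bot.2 (Additive.ofMul.injective hxy)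
  · intro x hx hfix
    rw [hK]
    intro a b
    exact congrArg Additive.ofMul (hfix _ ((hT _).2 ⟨a, b, rfl⟩))
  · intro t ht htA x hx hfix
    obtain ⟨a, b, rfl⟩ := (hT t).1 ht
    rw [hK]
    intro a' b'
    exact hSM.fix_of_fix h3 (hTA a b htA) ((hB0 x).2 hx) (congrArg Additive.ofMul hfix) a' b'
  · intro t ht htA x hx
    obtain ⟨a, b, rfl⟩ := (hT t).1 ht
    obtain ⟨y, hy, hxy⟩ := hSM.exists_comm (hTA a b htA) ((hB0 x).2 (hKB hx)) (hx a b)
    refine ⟨y.toMul, (hB0 _).1 hy, Additive.ofMul.injective ?_⟩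
    rw [hxy]
    exact hsub _ y.toMul
  · exact ⟨φ (H.u 1 0), (hT _).2 ⟨1, 0, rfl⟩, hne1⟩

/-- **FIELD-4.** -/
theorem szOut : SzOut.{u} := by
  intro M _ _ B A h h4 hs
  obtain ⟨T, K, h1, h2, h3, h5, h6, h7, h8, h9, h10, h11, -⟩ := exists_out M B A h h4 hs
  exact ⟨T, K, h1, h2, h3, h5, h6, h7, h8, h9, h10, h11⟩

end Cfsg.Agent.Omega.NO1.SzMod

end

-- merged: Cfsg.Agent.Mrg.Omega.NO1.Field.NoSz
section

/-!
# FIELD-5: THEOREM SZ (#19896), unconditional

`szOutS : SzOutS` (helper696, CLAIM A) and `noSz' : NoSz`.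
-/

set_option autoImplicit false

namespace Cfsg.Agent.Omega.NO1.Field

universe u

theorem szOutS : SzOutS.{u} := by
  intro M _ _ B A h h4 hs
  obtain ⟨T, K, h1, h2, h3, h5, h6, h7, h8, h9, h10, h11, h12, -, h14, t, ht, htA⟩ :=
    SzMod.exists_out M B A h h4 hs
  exact ⟨T, K, h1, h2, h3, h5, h6, h7, h8, h9, h10, h11, h12, t, ht, h14 t ht htA⟩

/-- **THEOREM SZ.** -/
theorem noSz' : NoSz.{u} := noSz szOutS

end Cfsg.Agent.Omega.NO1.Field

end
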